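import Cfsg.Agent.H258.QF.SecB
import Cfsg.Agent.H231.QF.Defs
import Cfsg.Agent.S2227

/-!
# `²E₆(2)` : elements of order divisible by seven with a centralizer of odd order (helper258)

`odd_seven` : `7 ∣ |g|` and `|C(g)|` odd imply `|C(g)| ≤ 735`, so `Sm g`.
-/

set_option autoImplicit false

namespace Cfsg.Agent.H258.QF

open Cfsg Cfsg.Lie Subgroup
open Cfsg.Agent.H231.QF

universe u

/-- no element of order 21 in `Sym 8` -/
theorem not_21 (s : Equiv.Perm (Fin 8)) : orderOf s ≠ 21 := by
  intro h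
  have h1 : s.cycleType.sum ≤ 8 := by
    rw [Equiv.Perm.sum_cycleType]
    exact (Finset.card_le_univ _).trans (by rw [Fintype.card_fin])
  have h2 : s.cycleType.lcm = 21 := by rw [Equiv.Perm.lcm_cycleType, h]
  have key : ∀ p : ℕ, p.Prime → ∀ S : Multiset ℕ, p ∣ S.lcm → ∃ a ∈ S, p ∣ a := by
    intro p hp S
    induction S using Multiset.induction_on with
    | empty =>
      intro h
      rw [Multiset.lcm_zero] at h
      exact absurd (Nat.dvd_one.1 h) hp.ne_one
    | cons a S ih =>
      intro h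
      rw [Multiset.lcm_cons] at h
      have h3 : p ∣ a * S.lcm := h.trans (by
        change Nat.lcm a S.lcm ∣ _
        exact Nat.lcm_dvd_mul _ _)
      rcases hp.dvd_mul.1 h3 with h4 | h4
      · exact ⟨a, Multiset.mem_cons_self a S, h4⟩
      · obtain ⟨b, hb, hb'⟩ := ih h4
        exact ⟨b, Multiset.mem_cons_of_mem hb, hb'⟩
  obtain ⟨a, ha, ha7⟩ := key 7 (by norm_num) _ (by rw [h2]; norm_num)
  obtain ⟨b, hb, hb3⟩ := key 3 (by norm_num) _ (by rw [h2]; norm_num)
  have ha2 := Equiv.Perm.two_le_of_mem_cycleType ha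
  have hb2 := Equiv.Perm.two_le_of_mem_cycleType hb
  have hale : a ≤ s.cycleType.sum := Multiset.le_sum_of_mem ha
  have hab : a ≠ b := by
    rintro rfl
    have : 21 ∣ a := by
      have := Nat.Coprime.mul_dvd_of_dvd_of_dvd (by norm_num : Nat.Coprime 7 3) ha7 hb3
      simpa using this
    have := Nat.le_of_dvd (by omega) this
    omega
  have h3 : a + b ≤ s.cycleType.sum := by
    obtain ⟨T, hT⟩ := Multiset.exists_cons_of_mem ha
    rw [hT] at hb ⊢
    rcases Multiset.mem_cons.1 hb with h | h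
    · exact absurd h.symm hab
    · rw [Multiset.sum_cons]
      exact Nat.add_le_add_left (Multiset.le_sum_of_mem h) a
  have h7 := Nat.le_of_dvd (by omega) ha7
  have h8 := Nat.le_of_dvd (by omega) hb3
  omega

/-- no commuting elements of orders 3, 5, 7 in `²E₆(2)` -/
theorem no_105 {F : Type u} [Field F] [Fintype F] (hF : Fintype.card F = 4) {w y s : KK F} (hw : orderOf w = 5)
    (hy : orderOf y = 7) (hs : orderOf s = 3) (h1 : w * y = y * w) (h2 : w * s = s * w) (h3 : y * s = s * y) : False := by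
  obtain ⟨e⟩ := (Cfsg.Agent.S2227.result (K := F) hF).2 w hw
  let y' : ↥(centralizer ({w} : Set (KK F))) := ⟨y, mem_centralizer_singleton_iff.2 h1.symm⟩
  let s' : ↥(centralizer ({w} : Set (KK F))) := ⟨s, mem_centralizer_singleton_iff.2 h2.symm⟩
  have hc : Commute y' s' := Subtype.ext h3
  have ho : orderOf (y' * s') = 21 := by
    have hy' : orderOf y' = 7 := by rw [← Subgroup.orderOf_coe]; exact hy
    have hs' : orderOf s' = 3 := by rw [← Subgroup.orderOf_coe]; exact hs
    rw [hc.orderOf_mul_eq_mul_orderOf_of_coprime (by rw [hy', hs']; norm_num), hy', hs']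
  have ho' : orderOf (e (y' * s')) = 21 := by rw [MulEquiv.orderOf_eq, ho]
  generalize e (y' * s') = x at ho'
  obtain ⟨a, b⟩ := x
  rw [Prod.orderOf_mk] at ho'
  have ha : orderOf a ∣ 5 := by
    have h4 := orderOf_dvd_natCard a
    rwa [Nat.card_eq_fintype_card, Fintype.card_multiplicative, ZMod.card] at h4
  have h5 : orderOf a = 1 := by
    rcases (Nat.dvd_prime (by norm_num)).1 ha with h | h
    · exact h
    · exfalso
      have h6 : orderOf a ∣ (orderOf a).lcm (orderOf b) := Nat.dvd_lcm_left _ _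
      rw [ho', h] at h6
      norm_num at h6
  rw [h5, Nat.lcm_one_left] at ho'
  refine not_21 (b : Equiv.Perm (Fin 8)) ?_
  rw [Subgroup.orderOf_coe, ho']

/-- an element of order five, normalized by an element of order three, is centralized -/
theorem comm_of_norm {G : Type*} [Group G] {w s : G} (hw : orderOf w = 5) (hs : orderOf s = 3)
    (h : s * w * s⁻¹ ∈ zpowers w) : w * s = s * w := by
  obtain ⟨k, hk⟩ := mem_zpowers_iff.1 h
  have h1 : s * w * s⁻¹ = w ^ k := hk.symm
  have h2 : s * (s * w * s⁻¹) * s⁻¹ = w ^ (k * k) := by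
    rw [h1, ← conj_zpow, h1, ← zpow_mul]
  have h3 : s * (s * (s * w * s⁻¹) * s⁻¹) * s⁻¹ = w ^ (k * k * k) := by
    rw [h2, ← conj_zpow, h1, ← zpow_mul]
    congr 1
    ring
  have h4 : s * (s * (s * w * s⁻¹) * s⁻¹) * s⁻¹ = w := by
    have h5 : s * s * s = 1 := by
      have := pow_orderOf_eq_one s
      rwa [hs, pow_succ, pow_two] at this
    calc s * (s * (s * w * s⁻¹) * s⁻¹) * s⁻¹ = (s * s * s) * w * (s * s * s)⁻¹ := by group
      _ = w := by rw [h5]; group
  rw [h4] at h3
  have h6 : w ^ (k * k * k - 1) = 1 := by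
    rw [zpow_sub, ← h3, zpow_one, mul_inv_cancel]
  have h7 : ((5 : ℕ) : ℤ) ∣ k * k * k - 1 := by
    rw [← hw]
    exact orderOf_dvd_iff_zpow_eq_one.2 h6
  have h8 : ((5 : ℕ) : ℤ) ∣ k - 1 := by
    have h9 : k * k * k - 1 = k ^ 3 - 1 := by ring
    rw [h9] at h7
    have h10 : ((k : ZMod 5)) ^ 3 = 1 := by
      have := (ZMod.intCast_zmod_eq_zero_iff_dvd (k ^ 3 - 1) 5).2 h7
      push_cast at this
      exact sub_eq_zero.1 this
    have h11 : ∀ a : ZMod 5, a ^ 3 = 1 → a = 1 := by decide
    have h12 := h11 _ h10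
    have h13 : ((k - 1 : ℤ) : ZMod 5) = 0 := by
      push_cast
      rw [h12, sub_self]
    exact (ZMod.intCast_zmod_eq_zero_iff_dvd (k - 1) 5).1 h13
  have h9 : w ^ (k - 1) = 1 := by
    rw [← orderOf_dvd_iff_zpow_eq_one, hw]
    exact h8
  have h10 : w ^ k = w := by
    rw [show k = k - 1 + 1 by ring, zpow_add, h9, one_mul, zpow_one]
  rw [h10] at h1
  exact (mul_inv_eq_iff_eq_mul.1 h1).symm

/-- `|C(g)| ≠ 2205` -/
theorem ne_2205 {F : Type u} [Field F] [Fintype F] (hF : Fintype.card F = 4) {g : KK F} (h : 7 ∣ orderOf g) :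
    Nat.card (centralizer ({g} : Set (KK F))) ≠ 2205 := by
  intro hc
  have hfin : Finite (KK F) := inferInstance
  obtain ⟨k, hk⟩ := h
  have hpos := orderOf_pos g
  have hy : orderOf (g ^ k) = 7 := by
    rw [orderOf_pow_of_dvd (by rintro rfl; omega) (by rw [hk]; exact Dvd.intro_left 7 rfl), hk]
    exact Nat.mul_div_cancel _ (by rcases Nat.eq_zero_or_pos k with h | h; · subst h; omega
                                   · exact h)
  set y := g ^ k with hyd
  set C := centralizer ({g} : Set (KK F)) with hC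
  have hyc : ∀ c ∈ C, c * y = y * c := by
    intro c hc
    have h1 : Commute c g := mem_centralizer_singleton_iff.1 hc
    exact h1.pow_right k
  have : Fact (Nat.Prime 5) := ⟨by norm_num⟩
  have : Fact (Nat.Prime 3) := ⟨by norm_num⟩
  obtain ⟨S⟩ := (inferInstance : Nonempty (Sylow 5 ↥C))
  have hS : Nat.card S = 5 := by
    rw [Sylow.card_eq_multiplicity, hc]
    have : (2205 : ℕ).factorization 5 = 1 := by
      rw [show (2205 : ℕ) = 5 ^ 1 * 441 by norm_num, Nat.factorization_mul (by norm_num) (by norm_num)]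
      rw [Nat.Prime.factorization_pow (by norm_num)]
      simp only [Finsupp.coe_add, Pi.add_apply, Finsupp.single_eq_same]
      rw [Nat.factorization_eq_zero_of_not_dvd (by norm_num)]
    rw [this, pow_one]
  -- the normalizer
  have hn1 : Nat.card (Sylow 5 ↥C) ≡ 1 [MOD 5] := card_sylow_modEq_one 5 ↥C
  have hn2 : Nat.card (Sylow 5 ↥C) = (normalizer ((S : Subgroup ↥C) : Set ↥C)).index := Sylow.card_eq_index_normalizer S
  have hn3 := (normalizer ((S : Subgroup ↥C) : Set ↥C)).card_mul_index
  rw [hc, ← hn2] at hn3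
  have hycC : y ∈ C := mem_centralizer_singleton_iff.2 ((Commute.refl g).pow_left k)
  let y' : ↥C := ⟨y, hycC⟩
  have hy' : orderOf y' = 7 := by rw [← Subgroup.orderOf_coe]; exact hy
  have h7 : 7 ∣ Nat.card (normalizer ((S : Subgroup ↥C) : Set ↥C)) := by
    have h8 : y' ∈ normalizer ((S : Subgroup ↥C) : Set ↥C) := by
      rw [mem_normalizer_iff]
      intro a
      have h9 : y' * a * y'⁻¹ = a := by
        rw [mul_inv_eq_iff_eq_mul]
        exact Subtype.ext (hyc a a.2).symm
      rw [h9]
    have h10 : orderOf (⟨y', h8⟩ : ↥(normalizer ((S : Subgroup ↥C) : Set ↥C))) = 7 := by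
      rw [Subgroup.orderOf_mk, hy']
    rw [← h10]
    exact orderOf_dvd_natCard _
  have h5 : 5 ∣ Nat.card (normalizer ((S : Subgroup ↥C) : Set ↥C)) := by
    have h11 := card_dvd_of_le (le_normalizer (H := (S : Subgroup ↥C)))
    rwa [hS] at h11
  have h3 : 3 ∣ Nat.card (normalizer ((S : Subgroup ↥C) : Set ↥C)) := by
    generalize Nat.card (normalizer ((S : Subgroup ↥C) : Set ↥C)) = a at hn3 h7 h5 ⊢
    generalize Nat.card (Sylow 5 ↥C) = b at hn3 hn1
    have h35 : 35 ∣ a := by
      have := Nat.Coprime.mul_dvd_of_dvd_of_dvd (by norm_num : Nat.Coprime 7 5) h7 h5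
      simpa using this
    obtain ⟨c, rfl⟩ := h35
    have hcb : c * b = 63 := by
      have h1 : 35 * (c * b) = 35 * 63 := by rw [← mul_assoc, hn3]
      exact Nat.eq_of_mul_eq_mul_left (by norm_num) h1
    have hc1 : c ∣ 63 := Dvd.intro _ hcb
    have hc2 : c ∈ Nat.divisors 63 := Nat.mem_divisors.2 ⟨hc1, by norm_num⟩
    have hd : Nat.divisors 63 = {1, 3, 7, 9, 21, 63} := by decide +kernel
    rw [hd] at hc2
    simp only [Finset.mem_insert, Finset.mem_singleton] at hc2
    rcases hc2 with h | h | h | h | h | h <;> subst h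
    · exfalso
      have : b = 63 := by omega
      subst this
      exact absurd hn1 (by decide)
    · norm_num
    · exfalso
      have : b = 9 := by omega
      subst this
      exact absurd hn1 (by decide)
    · norm_num
    · norm_num
    · norm_num
  obtain ⟨⟨s, hsN⟩, hs⟩ := exists_prime_orderOf_dvd_card' 3 h3
  rw [Subgroup.orderOf_mk] at hs
  obtain ⟨⟨w, hwS⟩, hw⟩ := exists_prime_orderOf_dvd_card' (G := ↥(S : Subgroup ↥C)) 5 (by
    rw [show Nat.card ↥(S : Subgroup ↥C) = 5 from hS])
  rw [Subgroup.orderOf_mk] at hw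
  have hz : zpowers w = (S : Subgroup ↥C) := by
    refine Subgroup.eq_of_le_of_card_ge (by rw [zpowers_le]; exact hwS) ?_
    rw [Nat.card_zpowers, hw]
    exact le_of_eq hS
  have hsw : s * w * s⁻¹ ∈ zpowers w := by
    rw [hz]
    exact (mem_normalizer_iff.1 hsN w).1 hwS
  have hcomm := comm_of_norm hw hs hsw
  refine no_105 hF (w := (w : KK F)) (y := y) (s := (s : KK F)) (by rw [Subgroup.orderOf_coe]; exact hw) hy
    (by rw [Subgroup.orderOf_coe]; exact hs) (hyc _ w.2) (congrArg Subtype.val hcomm) (hyc _ s.2).symm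

/-- **`7 ∣ |g|` and `|C(g)|` odd : `|C(g)| ≤ 735`** -/
theorem odd_seven {F : Type u} [Field F] [Fintype F] (hF : Fintype.card F = 4) (g : KK F) (h : 7 ∣ orderOf g)
    (ho : Odd (Nat.card (centralizer ({g} : Set (KK F))))) : Nat.card (centralizer ({g} : Set (KK F))) ≤ 735 := by
  have hfin : Finite (KK F) := inferInstance
  have hne := ne_2205 hF h
  obtain ⟨k, hk⟩ := h
  have hpos := orderOf_pos g
  have hy : orderOf (g ^ k) = 7 := by
    rw [orderOf_pow_of_dvd (by rintro rfl; omega) (by rw [hk]; exact Dvd.intro_left 7 rfl), hk]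
    exact Nat.mul_div_cancel _ (by rcases Nat.eq_zero_or_pos k with h | h; · subst h; omega
                                   · exact h)
  have h1 : centralizer ({g} : Set (KK F)) ≤ centralizer ({g ^ k} : Set (KK F)) := by
    intro c hc
    have h1 : Commute c g := mem_centralizer_singleton_iff.1 hc
    exact mem_centralizer_singleton_iff.2 (h1.pow_right k)
  have h2 := (card_dvd_of_le h1).trans (card_dvd hF hy)
  have h3 : Nat.card (centralizer ({g} : Set (KK F))) ∣ 2205 :=
    (Nat.Coprime.dvd_mul_left (Nat.Coprime.pow_right 8 (Nat.coprime_two_right.2 ho))).1 h2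
  obtain ⟨b, hb⟩ := h3
  have h4 : b ≠ 1 := by
    rintro rfl
    rw [mul_one] at hb
    exact hne hb.symm
  have h5 : Odd b := by
    have : Odd (Nat.card (centralizer ({g} : Set (KK F))) * b) := by rw [← hb]; decide
    exact (Nat.odd_mul.1 this).2
  obtain ⟨c, hc⟩ := h5
  have h6 : 3 ≤ b := by omega
  generalize Nat.card (centralizer ({g} : Set (KK F))) = a at hb
  nlinarith

theorem sm_of_odd_seven {F : Type u} [Field F] [Fintype F] (hF : Fintype.card F = 4) (g : KK F) (h : 7 ∣ orderOf g)
    (ho : Odd (Nat.card (centralizer ({g} : Set (KK F))))) : Sm g :=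
  (odd_seven hF g h ho).trans (by norm_num)

end Cfsg.Agent.H258.QF
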