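import Cfsg.Agent.CTwoTab.BInst
import Cfsg.Agent.H59.ESixField
import Cfsg.Agent.H829.Pw.BSeven

/-!
# `²E₆(2)` as a section of the Baby Monster: centralizers of elements of odd order (helper258)

* `exists_secB` : for every field of order four a subgroup `X₀` of the Baby Monster and an epimorphism `X₀ → ²E₆(2)` with
  kernel `{1, t}`, `t` an involution;
* `Sc.exists_lift` : elements of odd order lift to elements of the same order; `Sc.two_mul_card_dvd` : `2 |C_E(y)|` divides
  `|C_X(m)|` for a lift `m` of odd order;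
* `odd_dvd_B` : the odd divisors of `|C_B(y)|`, `|y| = 7`, divide `2205`; `odd_dvd` : the same for `²E₆(2)`.
-/

set_option autoImplicit false

namespace Cfsg.Agent.H258.QF

open Cfsg Subgroup

universe u v

/-- `σ : X₀ → E` is onto with kernel `{1, t}`, `t` an involution commuting with `X₀` -/
structure Sc {X : Type v} {E : Type u} [Group X] [Group E] (t : X) {X₀ : Subgroup X} (σ : ↥X₀ →* E) : Prop where
  t_sq : t * t = 1
  t_ne : t ≠ 1
  mem : t ∈ X₀
  comm : ∀ m ∈ X₀, m * t = t * m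
  surj : Function.Surjective σ
  ker : ∀ m : ↥X₀, σ m = 1 ↔ (m : X) = 1 ∨ (m : X) = t

namespace Sc

variable {X : Type v} {E : Type u} [Group X] [Group E] {t : X} {X₀ : Subgroup X} {σ : ↥X₀ →* E}

/-- elements of odd order lift to elements of the same order -/
theorem exists_lift (S : Sc t σ) {y : E} {n : ℕ} (hn : Odd n) (hy : orderOf y = n) : ∃ m : ↥X₀, σ m = y ∧ orderOf m = n := by
  obtain ⟨m, hm⟩ := S.surj y
  have h1 : σ (m ^ n) = 1 := by rw [map_pow, hm, ← hy, pow_orderOf_eq_one]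
  have h2 : (m ^ n) ^ 2 = 1 := by
    apply Subtype.ext
    rcases (S.ker _).1 h1 with h | h
    · rw [Subgroup.coe_pow, h, one_pow]; rfl
    · rw [Subgroup.coe_pow, h, pow_two, S.t_sq]; rfl
  refine ⟨m ^ (n + 1), ?_, ?_⟩
  · rw [map_pow, hm, pow_succ, ← hy, pow_orderOf_eq_one, one_mul]
  · have h3 : (m ^ (n + 1)) ^ n = 1 := by
      obtain ⟨k, hk⟩ := hn.add_one
      rw [← pow_mul, mul_comm, hk, pow_mul, ← two_mul, pow_mul, h2, one_pow]
    have h4 : n ∣ orderOf (m ^ (n + 1)) := by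
      have h5 : orderOf (σ (m ^ (n + 1))) ∣ orderOf (m ^ (n + 1)) := orderOf_map_dvd σ _
      rwa [show σ (m ^ (n + 1)) = y by rw [map_pow, hm, pow_succ, ← hy, pow_orderOf_eq_one, one_mul], hy] at h5
    exact Nat.dvd_antisymm (orderOf_dvd_of_pow_eq_one h3) h4

/-- if the images commute and `m` has odd order, then the elements commute -/
theorem comm_of (S : Sc t σ) {m c : ↥X₀} {n : ℕ} (hn : Odd n) (hm : m ^ n = 1) (h : σ c * σ m = σ m * σ c) :
    c * m = m * c := by
  have h1 : σ (c * m * c⁻¹ * m⁻¹) = 1 := by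
    rw [map_mul, map_mul, map_mul, map_inv, map_inv, h]
    group
  rcases (S.ker _).1 h1 with h2 | h2
  · have h3 : c * m * c⁻¹ * m⁻¹ = 1 := Subtype.ext h2
    have h4 : c * m * c⁻¹ = m := mul_inv_eq_one.1 h3
    exact mul_inv_eq_iff_eq_mul.1 h4
  · exfalso
    have h3 : c * m * c⁻¹ = (⟨t, S.mem⟩ : ↥X₀) * m := by
      have h4 : c * m * c⁻¹ * m⁻¹ = ⟨t, S.mem⟩ := Subtype.ext h2
      exact mul_inv_eq_iff_eq_mul.1 h4
    have h5 : (c * m * c⁻¹) ^ n = 1 := by rw [conj_pow, hm]; group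
    have hct : Commute (⟨t, S.mem⟩ : ↥X₀) m := Subtype.ext (S.comm m m.2).symm
    rw [h3, hct.mul_pow, hm, mul_one] at h5
    obtain ⟨k, rfl⟩ := hn
    have h6 : (⟨t, S.mem⟩ : ↥X₀) ^ 2 = 1 := Subtype.ext (by rw [Subgroup.coe_pow, pow_two]; exact S.t_sq)
    rw [pow_add, pow_mul, h6, one_pow, one_mul, pow_one] at h5
    exact S.t_ne (congrArg Subtype.val h5)

/-- `2 |C_E(y)|` divides `|C_X(m)|` for a lift `m` of odd order -/
theorem two_mul_card_dvd (S : Sc t σ) [Finite X] {m : ↥X₀} {n : ℕ} (hn : Odd n) (hm : m ^ n = 1) :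
    2 * Nat.card (centralizer ({σ m} : Set E)) ∣ Nat.card (centralizer ({(m : X)} : Set X)) := by
  have hE : Finite E := Finite.of_surjective σ S.surj
  set C : Subgroup E := centralizer ({σ m} : Set E) with hC
  set P : Subgroup ↥X₀ := C.comap σ with hP
  have h1 : P.map X₀.subtype ≤ centralizer ({(m : X)} : Set X) := by
    rintro _ ⟨c, hc, rfl⟩
    have h2 : σ c * σ m = σ m * σ c := mem_centralizer_singleton_iff.1 hc
    have h3 := S.comm_of hn hm h2
    exact mem_centralizer_singleton_iff.2 (congrArg Subtype.val h3)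
  have h2 : Nat.card ↥(P.map X₀.subtype) = Nat.card P :=
    Subgroup.card_map_of_injective X₀.subtype_injective
  have h3 : Nat.card P = 2 * Nat.card C := by
    have h4 := (σ.subgroupComap C).ker.card_mul_index
    rw [Subgroup.index_ker, MonoidHom.range_eq_top.2 (σ.subgroupComap_surjective_of_surjective C S.surj),
      Subgroup.card_top] at h4
    rw [← h4]
    congr 1
    have e : (σ.subgroupComap C).ker ≃ ({1, t} : Set X) :=
      { toFun := fun a => ⟨((a : ↥P) : ↥X₀), by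
          have h5 : σ ((a : ↥P) : ↥X₀) = 1 := congrArg Subtype.val ((MonoidHom.mem_ker).1 a.2)
          rcases (S.ker _).1 h5 with h | h
          · rw [h]; exact Set.mem_insert _ _
          · rw [h]; exact Set.mem_insert_of_mem _ rfl⟩
        invFun := fun b => ⟨⟨⟨b, by
            rcases b.2 with h | h
            · rw [h]; exact one_mem _
            · rw [Set.mem_singleton_iff.1 h]; exact S.mem⟩, by
            have h5 : σ (⟨b, by
              rcases b.2 with h | h
              · rw [h]; exact one_mem _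
              · rw [Set.mem_singleton_iff.1 h]; exact S.mem⟩ : ↥X₀) = 1 := (S.ker _).2 b.2
            change σ _ ∈ C
            rw [h5]; exact one_mem _⟩, by
          rw [MonoidHom.mem_ker]
          apply Subtype.ext
          exact (S.ker _).2 b.2⟩
        left_inv := fun a => rfl
        right_inv := fun b => rfl }
    have h6 : ({1, t} : Set X).ncard = 2 := Set.ncard_pair S.t_ne.symm
    rw [Nat.card_congr e, ← h6]
    rfl
  rw [← h3, ← h2]
  exact card_dvd_of_le h1

end Sc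

/-- **`²E₆(2)` as a section of the Baby Monster** -/
theorem exists_secB (F : Type u) [Field F] [Fintype F] (hF : Fintype.card F = 4) :
    ∃ (t : Spor.BabyMonster) (X₀ : Subgroup Spor.BabyMonster) (σ : ↥X₀ →* ↥(Lie.twistedE6 F 2)), Sc t σ := by
  obtain ⟨K, iK, iF, hK, t, X₀, σ, H, -, -⟩ := Cfsg.Agent.CTwoTab.BInst.exists_sec
  have e : K ≃+* F := FiniteField.ringEquivOfCardEq (by rw [hK, hF])
  let E := Cfsg.Agent.H59.ESixField.equiv e 2
  refine ⟨t, X₀, E.toMonoidHom.comp σ, H.t_sq, H.t_ne, H.mem, H.comm, E.surjective.comp H.surj, fun m => ?_⟩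
  rw [← H.ker m]
  change E (σ m) = 1 ↔ _
  exact MulEquiv.map_eq_one_iff E

/-! ### the prime seven -/

open Cfsg.Agent.MonsterX Cfsg.Agent.MonsterP Cfsg.Agent.CpAutBFive Cfsg.Agent.MFive Cfsg.Agent.H829.Pw in
/-- the centralizers of the involutions of `He` -/
theorem he_dvd {H : Type*} [Group H] (h : Spor.IsoHe H) {τ : H} (hτ : orderOf τ = 2) :
    Nat.card ↥(centralizer ({τ} : Set H)) ∣ 2 ^ 10 * 315 := by
  obtain ⟨e⟩ := h
  rw [LThreeB.card_centralizer_congr e τ]
  have h2 : orderOf (e τ) = 2 := by rw [MulEquiv.orderOf_eq, hτ]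
  have h3 : e τ * e τ = 1 := by rw [← pow_two, ← h2, pow_orderOf_eq_one]
  have h4 : e τ ≠ 1 := by
    intro h5
    rw [h5, orderOf_one] at h2
    norm_num at h2
  rcases CTwoTab.He.classes h3 h4 with hc | hc
  · have h5 : Nat.card ↥(Subgroup.centralizer ({CTwoTab.He.z} : Set Spor.He)) = 21504 := KFacts.He.Cent.card_cent
    rw [card_cent_of_isConj hc, h5]
    norm_num
  · rw [card_cent_of_isConj hc]
    exact H997.OutHe.card_cent_a.trans (by norm_num)

open Cfsg.Agent.MonsterX Cfsg.Agent.MonsterP Cfsg.Agent.CpAutBFive Cfsg.Agent.MFive Cfsg.Agent.H829.Pw in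
/-- `2 |C_B(y)|` divides `7 |C_He(τ)|` -/
theorem card_dvd_B {L : Type u} [Group L] [Finite L] (h : Spor.IsoB L) {y : L} (hy : orderOf y = 7) :
    2 * Nat.card ↥(centralizer ({y} : Set L)) ∣ 7 * (2 ^ 10 * 315) := by
  have hfin : Finite H630.Baby.Mon := MThirteen.Row.finite
  obtain ⟨t, x, ht, hx, hxt, hc⟩ := H630.Baby.exists_lift_card h (by norm_num) (by norm_num) hy
  obtain ⟨g, hg⟩ := exists_he (v := t) ht hx hxt
  have hx' : orderOf (g⁻¹ * x * g) = 7 := by
    have h6 := MulEquiv.orderOf_eq (MulAut.conj g⁻¹) x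
    rw [MulAut.conj_apply, inv_inv] at h6
    rw [h6, hx]
  have ht' : orderOf (g⁻¹ * t * g) = 2 := by
    have h6 := MulEquiv.orderOf_eq (MulAut.conj g⁻¹) t
    rw [MulAut.conj_apply, inv_inv] at h6
    rw [h6]
    exact MThirteen.Row.ta_order ht
  have hxt' : g⁻¹ * x * g * (g⁻¹ * t * g) = g⁻¹ * t * g * (g⁻¹ * x * g) := by
    calc g⁻¹ * x * g * (g⁻¹ * t * g) = g⁻¹ * (x * t) * g := by group
      _ = g⁻¹ * (t * x) * g := by rw [hxt]
      _ = _ := by group
  obtain ⟨τ, hτ, hd⟩ := H979.BAdj.card_XT_dvd (r := 7) (by norm_num) (by norm_num) hx' ht' hxt'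
  have h1 : Nat.card ↥(LThreeB.XT x t) = Nat.card ↥(LThreeB.XT (g⁻¹ * x * g) (g⁻¹ * t * g)) := by
    have h2 := Nat.card_congr (LThreeB.conjXT g⁻¹ x t).toEquiv
    rw [inv_inv] at h2
    exact h2
  rw [← h1, hc] at hd
  rw [mul_comm]
  exact hd.trans (Nat.mul_dvd_mul_left 7 (he_dvd hg hτ))

/-- the centralizers of the elements of order seven of `²E₆(2)` -/
theorem card_dvd {F : Type u} [Field F] [Fintype F] (hF : Fintype.card F = 4) {y : ↥(Lie.twistedE6 F 2)}
    (hy : orderOf y = 7) : Nat.card ↥(centralizer ({y} : Set ↥(Lie.twistedE6 F 2))) ∣ 2 ^ 8 * 2205 := by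
  have hfin : Finite Spor.BabyMonster := CTwoTab.BInst.finite_B
  obtain ⟨t, X₀, σ, S⟩ := exists_secB F hF
  obtain ⟨m, hm, hm7⟩ := S.exists_lift (by decide : Odd 7) hy
  have h1 := S.two_mul_card_dvd (m := m) (by decide : Odd 7) (by rw [← hm7]; exact pow_orderOf_eq_one m)
  rw [hm] at h1
  have h2 : orderOf (m : Spor.BabyMonster) = 7 := by rw [Subgroup.orderOf_coe, hm7]
  have h3 := card_dvd_B (L := Spor.BabyMonster) ⟨MulEquiv.refl _⟩ h2
  have h4 : 2 * (2 * Nat.card ↥(centralizer ({y} : Set ↥(Lie.twistedE6 F 2)))) ∣ 7 * (2 ^ 10 * 315) :=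
    (Nat.mul_dvd_mul_left 2 h1).trans h3
  have h5 : 4 * Nat.card ↥(centralizer ({y} : Set ↥(Lie.twistedE6 F 2))) ∣ 4 * (2 ^ 8 * 2205) := by
    have e : 7 * (2 ^ 10 * 315) = 4 * (2 ^ 8 * 2205) := by norm_num
    rw [← e]
    refine dvd_trans (dvd_of_eq ?_) h4
    ring
  exact Nat.dvd_of_mul_dvd_mul_left (by norm_num) h5

end Cfsg.Agent.H258.QF
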